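import Cfsg.Agent.H825.KS.Tools
import Cfsg.Agent.H630.Ore.Co1.InA
import Cfsg.Agent.MonsterU.CoFrameF
import Cfsg.Agent.KFacts.Co1.YBig

/-!
# S4577, row `Co1` (helper397; the 16-version of `H264/KKL/Co1.lean`)

* 2A, 2C: the centralizer of the involution has a normal 2-subgroup of order `2 ^ 9`, `2 ^ 11`;
* 2B: the lifts to `Co0` of the elements of `D` have square `-1`, so any two of them anticommute; impossible for
  `a`, `b`, `b c`. (The element of order 5 is not used.)
-/

set_option autoImplicit false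

namespace Cfsg.Agent.H397.KS.Co1

open Cfsg Subgroup Cfsg.Agent.H613.KS
open Cfsg.Agent.SporadicA.Co0Mono
open Cfsg.Agent.SporadicA.Co1Simple (allOne)
open Cfsg.Agent.CoOneType.SignFacts
open Cfsg.Agent.CoOneType.ClosingFacts (mk mk_mul mk_inv exists_mk mk_eq_one mk_eq)
open Cfsg.Agent.KFacts.Co1D4
open Cfsg.Agent.H630.Ore.Co1 (IsA IsD inv_cases)
open Cfsg.Agent.CoOneType.CoOneE (E pr centralizer_dodecad_le card_E)
open Cfsg.Agent.MonsterU.CoFrameF (F conj_mem_E comm_of_mem_E)

universe u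

theorem exists_notMem {D : Subgroup Spor.Co1} (h16 : Nat.card D = 16) (s : Finset Spor.Co1) (hs : s.card < 16) :
    ∃ d ∈ D, d ∉ s := by
  by_contra hcon
  push Not at hcon
  have h1 : Nat.card D ≤ Nat.card (s : Set Spor.Co1) :=
    Nat.card_mono (Finset.finite_toSet s) fun d hd => hcon d hd
  rw [h16, Nat.card_coe_set_eq, Set.ncard_coe_finset] at h1
  omega

theorem J_sq : signCo0 allOne * signCo0 allOne = 1 := signCo0_mul_self _

theorem J_comm (g : Co0) : g * signCo0 allOne = signCo0 allOne * g := sign_allOne_comm g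

/-- lifts of elements of class 2B have square `-1` -/
theorem sq_of_B {d : Spor.Co1} (h : IsConj TwoB.w d) {t : Co0} (ht : mk t = d) : t * t = signCo0 allOne := by
  obtain ⟨g, hg⟩ := isConj_iff.1 h
  obtain ⟨g, rfl⟩ := exists_mk g
  have h1 : mk t = mk (g * TwoB.k * g⁻¹) := by
    rw [ht, ← hg, mk_mul, mk_mul, mk_inv]
  have h2 : g * TwoB.k * g⁻¹ * (g * TwoB.k * g⁻¹) = signCo0 allOne := by
    calc g * TwoB.k * g⁻¹ * (g * TwoB.k * g⁻¹) = g * (TwoB.k * TwoB.k) * g⁻¹ := by group
      _ = signCo0 allOne := by rw [TwoB.k_sq, J_comm]; group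
  rcases (mk_eq _ _).1 h1 with h3 | h3
  · rw [h3, h2]
  · rw [h3]
    calc g * TwoB.k * g⁻¹ * signCo0 allOne * (g * TwoB.k * g⁻¹ * signCo0 allOne)
        = g * TwoB.k * g⁻¹ * (signCo0 allOne * (g * TwoB.k * g⁻¹)) * signCo0 allOne := by group
      _ = g * TwoB.k * g⁻¹ * (g * TwoB.k * g⁻¹ * signCo0 allOne) * signCo0 allOne := by
          rw [← J_comm (g * TwoB.k * g⁻¹)]
      _ = (g * TwoB.k * g⁻¹ * (g * TwoB.k * g⁻¹)) * (signCo0 allOne * signCo0 allOne) := by group
      _ = signCo0 allOne := by rw [h2, J_sq, mul_one]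

/-- elements with squares `-1` whose product has square `-1` anticommute -/
theorem anti {u v : Co0} (hu : u * u = signCo0 allOne) (hv : v * v = signCo0 allOne)
    (huv : u * v * (u * v) = signCo0 allOne) : u * v = signCo0 allOne * (v * u) := by
  have h1 : u * (u * v * (u * v)) * v = u * signCo0 allOne * v := by rw [huv]
  have h2 : u * (u * v * (u * v)) * v = (u * u) * (v * u) * (v * v) := by group
  rw [h2, hu, hv] at h1
  have h3 : signCo0 allOne * (v * u) * signCo0 allOne = v * u := by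
    rw [mul_assoc, J_comm, ← mul_assoc, J_sq, one_mul]
  rw [h3, J_comm, mul_assoc] at h1
  rw [h1, ← mul_assoc, J_sq, one_mul]

/-- the involutions of `D` are of class 2B -/
theorem all_B {D : Subgroup Spor.Co1} {x : Spor.Co1} (h : Cfg D x) {z : Spor.Co1} (hz : z ∈ D) (hz1 : z ≠ 1) :
    IsConj TwoB.w z := by
  rcases inv_cases (h.e16.inv z hz) hz1 with hA | hD | hB
  · obtain ⟨c, hc, hcz⟩ := hA
    have hL := KFacts.Co1.InCo1.large hc
    refine absurd hcz (H825.KS.not_mem (N := KFacts.Co1.InCo1.RCo1 c) (LargeExtra.Base.isPGroup hL) (fun n hn => ?_)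
      (fun g hg n hn => hL.conj_mem g (mem_centralizer_singleton_iff.1 hg) n hn) (Or.inr ?_) h hz)
    · exact mem_centralizer_singleton_iff.2 (hL.comm_z n hn)
    · rw [KFacts.Co1.YBig.card_R hc]
      norm_num
  · obtain ⟨d, hd, hdz⟩ := hD
    have hE : IsPGroup 2 E := IsPGroup.of_card (n := 11) (by rw [card_E]; norm_num)
    refine absurd hdz (H825.KS.not_mem (N := E) hE (fun n hn => ?_) (fun g hg n hn => ?_) (Or.inr ?_) h hz)
    · exact mem_centralizer_singleton_iff.2 (comm_of_mem_E hn ⟨d, rfl⟩)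
    · exact conj_mem_E (centralizer_dodecad_le d hd hg) hn
    · rw [card_E]
      norm_num
  · exact hB

theorem noCfg_co1 : NoCfg Spor.Co1 := by
  classical
  intro D x h
  have h16 := h.e16.card
  obtain ⟨z, hz, hz1⟩ := exists_notMem h16 {1} (by simp)
  rw [Finset.mem_singleton] at hz1
  have hall : ∀ d ∈ D, d ≠ 1 → ∀ t : Co0, mk t = d → t * t = signCo0 allOne :=
    fun d hd hd1 t ht => sq_of_B (all_B h hd hd1) ht
  have hanti : ∀ a ∈ D, a ≠ 1 → ∀ b ∈ D, b ≠ 1 → a ≠ b → ∀ u v : Co0, mk u = a → mk v = b →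
      u * v = signCo0 allOne * (v * u) := by
    intro a ha ha1 b hb hb1 hab u v hu hv
    refine anti (hall a ha ha1 u hu) (hall b hb hb1 v hv) (hall (a * b) (D.mul_mem ha hb) (fun h0 => hab ?_) _ ?_)
    · have h2 := h.e16.inv b hb
      exact mul_right_cancel (h0.trans h2.symm)
    · rw [mk_mul, hu, hv]
  obtain ⟨b, hb, hb1⟩ := exists_notMem h16 {1, z} (lt_of_le_of_lt (Finset.card_le_two) (by norm_num))
  obtain ⟨c, hc, hc1⟩ := exists_notMem h16 {1, z, b, z * b} (lt_of_le_of_lt (Finset.card_le_four) (by norm_num))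
  simp only [Finset.mem_insert, Finset.mem_singleton, not_or] at hb1 hc1
  obtain ⟨hb1, hbz⟩ := hb1
  obtain ⟨hc1, hcz, hcb, hczb⟩ := hc1
  obtain ⟨u, hu⟩ := exists_mk z
  obtain ⟨v, hv⟩ := exists_mk b
  obtain ⟨w, hw⟩ := exists_mk c
  have hbb := h.e16.inv b hb
  have hbc : b * c ≠ 1 := fun h0 => hcb (mul_left_cancel (h0.trans hbb.symm))
  have hzbc : z ≠ b * c := by
    intro h0
    apply hczb
    have h2 : c = b * z := by rw [h0, ← mul_assoc, hbb, one_mul]
    rw [h2, H825.KS.cfg_comm h b hb z hz]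
  have e1 := hanti z hz hz1 b hb hb1 (Ne.symm hbz) u v hu hv
  have e2 := hanti z hz hz1 c hc hc1 (Ne.symm hcz) u w hu hw
  have e3 := hanti z hz hz1 (b * c) (D.mul_mem hb hc) hbc hzbc u (v * w) hu (by rw [mk_mul, hv, hw])
  have e4 : u * (v * w) = v * w * u := by
    calc u * (v * w) = (u * v) * w := by group
      _ = signCo0 allOne * (v * u) * w := by rw [e1]
      _ = signCo0 allOne * v * (u * w) := by group
      _ = signCo0 allOne * v * (signCo0 allOne * (w * u)) := by rw [e2]
      _ = signCo0 allOne * (v * signCo0 allOne) * (w * u) := by group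
      _ = (signCo0 allOne * signCo0 allOne) * (v * w * u) := by rw [J_comm]; group
      _ = v * w * u := by rw [J_sq, one_mul]
  rw [e4] at e3
  have e5 : signCo0 allOne = 1 := by
    have : signCo0 allOne * (v * w * u) = 1 * (v * w * u) := by rw [one_mul]; exact e3.symm
    exact mul_right_cancel this
  exact KFacts.Co1.InCo1.allOne_ne_one e5

/-- **the row `Co1` of S4577** -/
theorem E_Co1 {S : Type u} [Group S] [Finite S] (h : Spor.IsoCo1 S) : NoCfg S := by
  obtain ⟨e⟩ := h
  exact H825.KS.noCfg_congr e noCfg_co1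

end Cfsg.Agent.H397.KS.Co1
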